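import Groth.Agent.Lib.VB17.Setup
import Groth.Agent.Lib.SecDiv18.Peel
import Groth.Agent.Lib.RegExt.Image
import Groth.Agent.Lib.FlatH4.FlatLocusScheme
import Groth.Agent.Lib.Curve17.Basic
import Groth.Agent.Lib.VarDim.Normal
import Groth.Prelude.Def_Pi1
import Mathlib.RingTheory.IntegralClosure.GoingDown

/-! Finite covers of normal surfaces are flat outside finitely many points. -/

set_option autoImplicit false
set_option linter.style.haveILetI false
set_option linter.unusedSectionVars false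
set_option backward.isDefEq.respectTransparency false
set_option backward.isDefEq.respectTransparency.types false

universe u

open CategoryTheory AlgebraicGeometry TopologicalSpace IsLocalRing

namespace Groth.Agent.FinFlat9

/-- A domain containing a normal Noetherian local ring of dimension at most one is flat over it. -/
theorem flat_of_injective {A B : Type u} [CommRing A] [CommRing B] [IsLocalRing A] [IsDomain A]
    [IsNoetherianRing A] [IsIntegrallyClosed A] [IsDomain B] (h : ringKrullDim A ≤ 1) (φ : A →+* B)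
    (hφ : Function.Injective φ) : φ.Flat := by
  letI := φ.toAlgebra
  show Module.Flat A B
  haveI := DVRVal.valuationRing_of_normal A h
  haveI : IsPrincipalIdealRing A :=
    ((IsBezout.TFAE (R := A)).out 0 1 : IsNoetherianRing A ↔ IsPrincipalIdealRing A).1 inferInstance
  rw [IsDedekindDomain.flat_iff_torsion_eq_bot, eq_bot_iff]
  rintro t ⟨⟨a, ha⟩, hat⟩
  rw [Submonoid.mk_smul, Algebra.smul_def, mul_eq_zero] at hat
  rcases hat with h0 | h0
  · exact absurd ((map_eq_zero_iff _ hφ).1 h0) (nonZeroDivisors.ne_zero ha)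
  · exact h0

theorem isClosed_singleton_of_two_le {X : Scheme.{u}} (hX : topologicalKrullDim X ≤ 2) {x : X}
    (hx : (2 : WithBot ℕ∞) ≤ ringKrullDim (X.presheaf.stalk x)) : IsClosed ({x} : Set X) := by
  refine closure_subset_iff_isClosed.1 fun w hw => ?_
  have hxw : x ⤳ w := specializes_iff_mem_closure.2 hw
  by_contra hne
  have hle : w ≤ x := hxw
  have hlt : w < x := lt_of_le_not_ge hle fun h => hne (show w = x from (hxw.antisymm h).eq.symm)
  have h1 := Order.coheight_add_one_le hlt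
  have h2 : ((Order.coheight w : ℕ∞) : WithBot ℕ∞) ≤ 2 :=
    (ringKrullDim_stalk_eq_coheight w).symm.trans_le ((VB17.ringKrullDim_stalk_le_topologicalKrullDim w).trans hX)
  rw [ringKrullDim_stalk_eq_coheight] at hx
  have h3 : (2 : ℕ∞) ≤ Order.coheight x := WithBot.coe_le_coe.1 hx
  have h4 : Order.coheight w ≤ 2 := WithBot.coe_le_coe.1 h2
  have h5 : (2 : ℕ∞) + 1 ≤ 2 := ((add_le_add_left h3 1).trans h1).trans h4
  exact absurd h5 (by decide)

theorem ringKrullDim_stalk_eq {X Y : Scheme.{u}} [IsIntegral X] [IsIntegral Y] (f : X ⟶ Y) [IsFinite f]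
    (hdom : f (genericPoint X) = genericPoint Y)
    (hN : ∀ y : Y, IsIntegrallyClosed (Y.presheaf.stalk y)) (x : X) :
    ringKrullDim (X.presheaf.stalk x) = ringKrullDim (Y.presheaf.stalk (f x)) := by
  obtain ⟨U, hU, hxU, -⟩ := exists_isAffineOpen_mem_and_subset (X := Y) (x := f x) (U := ⊤) trivial
  have hV : IsAffineOpen (f ⁻¹ᵁ U) := hU.preimage f
  haveI : Nonempty U := ⟨⟨f x, hxU⟩⟩
  haveI : Nonempty (f ⁻¹ᵁ U : X.Opens) := ⟨⟨x, hxU⟩⟩
  haveI := VarDim.isIntegrallyClosed_sections hN U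
  letI := (f.app U).hom.toAlgebra
  haveI : Algebra.IsIntegral Γ(Y, U) Γ(X, f ⁻¹ᵁ U) := ⟨(IsFinite.finite_app f U hU).to_isIntegral⟩
  haveI : FaithfulSMul Γ(Y, U) Γ(X, f ⁻¹ᵁ U) := by
    rw [faithfulSMul_iff_algebraMap_injective]
    intro a b hab
    refine germ_injective_of_isIntegral Y (f x) hxU ?_
    apply Curve17.stalkMap_injective f hdom x
    rw [Scheme.Hom.germ_stalkMap_apply, Scheme.Hom.germ_stalkMap_apply]
    exact congrArg (X.presheaf.germ (f ⁻¹ᵁ U) x hxU) hab
  let P := hV.primeIdealOf ⟨x, hxU⟩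
  let p := hU.primeIdealOf ⟨f x, hxU⟩
  have hp : PrimeSpectrum.comap (algebraMap Γ(Y, U) Γ(X, f ⁻¹ᵁ U)) P = p := by
    have := IsAffineOpen.comap_primeIdealOf_appLE (f := f) U hU (f ⁻¹ᵁ U) hV le_rfl (x := x) hxU
    rw [Scheme.Hom.appLE_eq_app] at this
    exact this
  rw [SecDiv.ringKrullDim_stalk_eq_height hV hxU, SecDiv.ringKrullDim_stalk_eq_height hU hxU]
  have h := VarDim.height_comap_eq (R := Γ(Y, U)) P
  rw [hp] at h
  rw [PrimeSpectrum.height_eq_orderHeight, PrimeSpectrum.height_eq_orderHeight]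
  exact congrArg _ h.symm

theorem exists_open_flat (X Y : Scheme.{u}) [IsIntegral X] [IsIntegral Y] [IsNoetherian Y]
    (hnX : Pi1.IsNormalScheme X) (hnY : Pi1.IsNormalScheme Y)
    (hdY : topologicalKrullDim Y = 2) (f : X ⟶ Y) [IsFinite f] [Surjective f] :
    ∃ V : Y.Opens, ((V : Set Y)ᶜ).Finite ∧ (∀ y : Y, y ∉ V → ringKrullDim (Y.presheaf.stalk y) = 2) ∧
      (((f ⁻¹ᵁ V : X.Opens) : Set X)ᶜ).Finite ∧ (∀ x : X, x ∉ f ⁻¹ᵁ V → ringKrullDim (X.presheaf.stalk x) = 2) ∧
      Flat (f ∣_ V) := by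
  haveI : LocallyOfFinitePresentation f := inferInstance
  have hdom : f (genericPoint X) = genericPoint Y := by
    have h1 := (genericPoint_spec X).image f.continuous
    rw [Set.image_univ, f.surjective.range_eq, closure_univ] at h1
    exact h1.eq (genericPoint_spec Y)
  let Z : Set Y := f '' {x : X | (f.stalkMap x).hom.Flat}ᶜ
  have hZ : IsClosed Z := f.isClosedMap _ (FlatH4.isOpen_flatLocus f).isClosed_compl
  have h2 : ∀ y ∈ Z, ringKrullDim (Y.presheaf.stalk y) = 2 := by
    rintro _ ⟨x, hx, rfl⟩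
    refine le_antisymm ((VB17.ringKrullDim_stalk_le_topologicalKrullDim _).trans hdY.le) ?_
    by_contra hlt
    apply hx
    haveI := (hnY (f x)).1
    haveI := (hnY (f x)).2
    haveI := (hnX x).1
    refine flat_of_injective ?_ _ (Curve17.stalkMap_injective f hdom x)
    rw [not_le] at hlt
    obtain ⟨n, hn⟩ : ∃ n : ℕ∞, ringKrullDim (Y.presheaf.stalk (f x)) = n :=
      ⟨_, ringKrullDim_stalk_eq_coheight (f x)⟩
    rw [hn] at hlt ⊢
    have h' : n < ((1 + 1 : ℕ) : ℕ∞) := WithBot.coe_lt_coe.1 hlt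
    exact WithBot.coe_le_coe.2 (ENat.lt_natCast_add_one_iff.1 (by exact_mod_cast h'))
  have hfin : Z.Finite := RegExt.finite_of_forall_isClosed_singleton hZ
    fun y hy => isClosed_singleton_of_two_le hdY.le (h2 y hy).ge
  refine ⟨⟨Zᶜ, hZ.isOpen_compl⟩, ?_, fun y hy => h2 y (not_not.1 hy), ?_, fun x hx => ?_, ?_⟩
  · exact (compl_compl Z).symm ▸ hfin
  · refine (hfin.preimage' fun y _ => f.finite_preimage_singleton y).subset fun x hx => ?_
    exact not_not.1 hx
  · rw [ringKrullDim_stalk_eq f hdom (fun y => (hnY y).2) x]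
    exact h2 _ (not_not.1 hx)
  · refine Flat.of_stalkMap _ fun x => ?_
    refine (RingHom.Flat.respectsIso.arrow_mk_iso_iff (morphismRestrictStalkMap f _ x)).2 ?_
    by_contra hx
    exact x.2 ⟨x.1, hx, rfl⟩

end Groth.Agent.FinFlat9
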